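import Cfsg.Agent.Lib.Helper12.TCG.ONPres

/-! the base words of the certificate P3B (generated, helper17) -/

set_option autoImplicit false

namespace Cfsg.Agent.Lib.helper17.ONM.P3B

open Cfsg.Spor Cfsg.Agent.Lib.Helper12.TC Cfsg.Agent.Lib.Helper12.TCG

/-- the words of the further relators, with the central letters -/
def xWords : List (List ℕ) :=
  [[6, 4, 3, 6, 3, 4, 6, 4, 3, 6, 3, 9],
   [0, 5, 7, 7],
   [0, 5, 3, 2, 3, 2, 3, 2, 3, 2],
   [2, 7, 3, 7, 3, 2, 3, 6, 3, 6],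
   [3, 7, 2, 7, 2, 3, 2, 6, 2, 6],
   [1, 2, 3, 6, 1, 2, 3, 6, 1, 2, 3, 6, 1, 2, 3, 6, 1, 2, 3, 6],
   [6, 1, 2, 6, 2, 1, 6, 1, 2, 6, 2]]

/-- the words saying that the central letters are central (and their orders) -/
def czWords : List (List ℕ) :=
  [[8, 8, 8],
   [0, 8, 0, 9],
   [1, 8, 1, 9],
   [2, 8, 2, 9],
   [3, 8, 3, 9],
   [4, 8, 4, 9],
   [5, 8, 5, 9],
   [6, 8, 7, 9]]

/-- the words of the letters and their inverses -/
def prWords : List (List ℕ) :=
  [[0, 0],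
   [1, 1],
   [2, 2],
   [3, 3],
   [4, 4],
   [5, 5],
   [6, 7],
   [7, 6],
   [8, 9],
   [9, 8]]

/-- the base words -/
def baseL : List (List ℕ) :=
  coxWords ON.edges ONPres.gen 6 ++ (xWords ++ (czWords ++ (prWords ++ [[]])))

theorem hlet : lettersK 10 baseL = true := by decide

end Cfsg.Agent.Lib.helper17.ONM.P3B
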