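import Cfsg.Agent.Lib.helper17.ONM.P3B.Chk0
import Cfsg.Agent.Lib.helper17.ONM.P3B.Chk1
import Cfsg.Agent.Lib.helper17.ONM.P3B.Chk2
import Cfsg.Agent.Lib.helper17.ONM.P3B.Chk3
import Cfsg.Agent.Lib.helper17.ONM.P3B.Chk4
import Cfsg.Agent.Lib.helper17.ONM.P3B.Chk5
import Cfsg.Agent.Lib.helper17.ONM.P3B.Chk6
import Cfsg.Agent.Lib.helper17.ONM.P3B.Chk7
import Cfsg.Agent.Lib.helper17.ONM.P3B.Chk8
import Cfsg.Agent.Lib.helper17.ONM.P3B.Chk9
import Cfsg.Agent.Lib.helper17.ONM.P3B.Chk10
import Cfsg.Agent.Lib.helper17.ONM.P3B.Chk11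
import Cfsg.Agent.Lib.helper17.ONM.P3B.Chk12
import Cfsg.Agent.Lib.helper17.ONM.P3B.Chk13
import Cfsg.Agent.Lib.helper17.ONM.P3B.Chk14
import Cfsg.Agent.Lib.helper17.ONM.P3B.Chk15
import Cfsg.Agent.Lib.helper17.ONM.P3B.Chk16
import Cfsg.Agent.Lib.helper17.ONM.P3B.Chk17
import Cfsg.Agent.Lib.helper17.ONM.P3B.Chk18
import Cfsg.Agent.Lib.helper17.ONM.P3B.Chk19
import Cfsg.Agent.Lib.helper17.ONM.P3B.Chk20
import Cfsg.Agent.Lib.helper17.ONM.P3B.Chk21
import Cfsg.Agent.Lib.helper17.ONM.P3B.Chk22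
import Cfsg.Agent.Lib.helper17.ONM.P3B.Chk23
import Cfsg.Agent.Lib.helper17.ONM.P3B.Chk24
import Cfsg.Agent.Lib.helper17.ONM.P3B.Chk25
import Cfsg.Agent.Lib.helper17.ONM.P3B.Chk26
import Cfsg.Agent.Lib.helper17.ONM.P3B.Chk27
import Cfsg.Agent.Lib.helper17.ONM.P3B.Chk28
import Cfsg.Agent.Lib.helper17.ONM.P3B.Chk29
import Cfsg.Agent.Lib.helper17.ONM.P3B.Chk30
import Cfsg.Agent.Lib.helper17.ONM.P3B.Chk31
import Cfsg.Agent.Lib.helper17.ONM.P3B.Chk32
import Cfsg.Agent.Lib.helper17.ONM.P3B.Chk33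
import Cfsg.Agent.Lib.helper17.ONM.P3B.Chk34
import Cfsg.Agent.Lib.helper17.ONM.P3B.Chk35
import Cfsg.Agent.Lib.helper17.ONM.P3B.Chk36
import Cfsg.Agent.Lib.helper17.ONM.P3B.Chk37
import Cfsg.Agent.Lib.helper17.ONM.P3B.Chk38
import Cfsg.Agent.Lib.helper17.ONM.P3B.Chk39
import Cfsg.Agent.Lib.helper17.ONM.P3B.Chk40
import Cfsg.Agent.Lib.helper17.ONM.P3B.Chk41
import Cfsg.Agent.Lib.helper17.ONM.P3B.Chk42
import Cfsg.Agent.Lib.helper17.ONM.P3B.Chk43
import Cfsg.Agent.Lib.helper17.ONM.P3B.Chk44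
import Cfsg.Agent.Lib.helper17.ONM.P3B.Chk45
import Cfsg.Agent.Lib.helper17.ONM.P3B.Chk46
import Cfsg.Agent.Lib.helper17.ONM.P3B.Chk47
import Cfsg.Agent.Lib.helper17.ONM.P3B.Chk48
import Cfsg.Agent.Lib.helper17.ONM.P3B.Chk49
import Cfsg.Agent.Lib.helper17.ONM.P3B.Chk50
import Cfsg.Agent.Lib.helper17.ONM.P3B.Chk51
import Cfsg.Agent.Lib.helper17.ONM.P3B.Chk52
import Cfsg.Agent.Lib.helper17.ONM.P3B.Chk53
import Cfsg.Agent.Lib.helper17.ONM.P3B.Chk54
import Cfsg.Agent.Lib.helper17.ONM.P3B.Chk55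
import Cfsg.Agent.Lib.helper17.ONM.P3B.Chk56
import Cfsg.Agent.Lib.helper17.ONM.P3B.Chk57
import Cfsg.Agent.Lib.helper17.ONM.P3B.Chk58
import Cfsg.Agent.Lib.helper17.ONM.P3B.Chk59
import Cfsg.Agent.Lib.helper17.ONM.P3B.Chk60
import Cfsg.Agent.Lib.helper17.ONM.P3B.Chk61
import Cfsg.Agent.Lib.helper17.ONM.P3B.Chk62
import Cfsg.Agent.Lib.helper17.ONM.P3B.Chk63
import Cfsg.Agent.Lib.helper17.ONM.P3B.Chk64
import Cfsg.Agent.Lib.helper17.ONM.P3B.Chk65
import Cfsg.Agent.Lib.helper17.ONM.P3B.Chk66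
import Cfsg.Agent.Lib.helper17.ONM.P3B.Chk67
import Cfsg.Agent.Lib.helper17.ONM.P3B.Chk68
import Cfsg.Agent.Lib.helper17.ONM.P3B.Chk69
import Cfsg.Agent.Lib.helper17.ONM.P3B.Chk70
import Cfsg.Agent.Lib.helper17.ONM.P3B.Chk71
import Cfsg.Agent.Lib.helper17.ONM.P3B.Chk72
import Cfsg.Agent.Lib.helper17.ONM.P3B.Chk73
import Cfsg.Agent.Lib.helper17.ONM.P3B.Chk74
import Cfsg.Agent.Lib.helper17.ONM.P3B.Chk75
import Cfsg.Agent.Lib.helper17.ONM.P3B.Chk76
import Cfsg.Agent.Lib.helper17.ONM.P3B.Chk77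
import Cfsg.Agent.Lib.helper17.ONM.P3B.Chk78
import Cfsg.Agent.Lib.helper17.ONM.P3B.Chk79
import Cfsg.Agent.Lib.helper17.ONM.P3B.Chk80
import Cfsg.Agent.Lib.helper17.ONM.P3B.Chk81
import Cfsg.Agent.Lib.helper17.ONM.P3B.Chk82
import Cfsg.Agent.Lib.helper17.ONM.P3B.Chk83
import Cfsg.Agent.Lib.helper17.ONM.P3B.Chk84
import Cfsg.Agent.Lib.helper17.ONM.P3B.Chk85
import Cfsg.Agent.Lib.helper17.ONM.P3B.Chk86
import Cfsg.Agent.Lib.helper17.ONM.P3B.Chk87
import Cfsg.Agent.Lib.helper17.ONM.P3B.Chk88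
import Cfsg.Agent.Lib.helper17.ONM.P3B.Chk89
import Cfsg.Agent.Lib.helper17.ONM.P3B.Chk90
import Cfsg.Agent.Lib.helper17.ONM.P3B.Chk91
import Cfsg.Agent.Lib.helper17.ONM.P3B.Chk92
import Cfsg.Agent.Lib.helper17.ONM.P3B.Chk93
import Cfsg.Agent.Lib.helper17.ONM.P3B.Chk94
import Cfsg.Agent.Lib.helper17.ONM.P3B.Chk95
import Cfsg.Agent.Lib.helper17.ONM.P3B.Chk96
import Cfsg.Agent.Lib.helper17.ONM.P3B.Chk97
import Cfsg.Agent.Lib.helper17.ONM.P3B.Chk98
import Cfsg.Agent.Lib.helper17.ONM.P3B.Chk99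
import Cfsg.Agent.Lib.helper17.ONM.P3B.Chk100
import Cfsg.Agent.Lib.helper17.ONM.P3B.Chk101
import Cfsg.Agent.Lib.helper17.ONM.P3B.Chk102
import Cfsg.Agent.Lib.helper17.ONM.P3B.Chk103
import Cfsg.Agent.Lib.helper17.ONM.P3B.Chk104
import Cfsg.Agent.Lib.helper17.ONM.P3B.Chk105
import Cfsg.Agent.Lib.helper17.ONM.P3B.Chk106
import Cfsg.Agent.Lib.helper17.ONM.P3B.Chk107
import Cfsg.Agent.Lib.helper17.ONM.P3B.Chk108
import Cfsg.Agent.Lib.helper17.ONM.P3B.Chk109
import Cfsg.Agent.Lib.helper17.ONM.P3B.Chk110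
import Cfsg.Agent.Lib.helper17.ONM.P3B.Chk111
import Cfsg.Agent.Lib.helper17.ONM.P3B.Chk112
import Cfsg.Agent.Lib.helper17.ONM.P3B.Chk113
import Cfsg.Agent.Lib.helper17.ONM.P3B.Chk114
import Cfsg.Agent.Lib.helper17.ONM.P3B.Chk115
import Cfsg.Agent.Lib.helper17.ONM.P3B.Chk116
import Cfsg.Agent.Lib.helper17.ONM.P3B.Chk117
import Cfsg.Agent.Lib.helper17.ONM.P3B.Chk118
import Cfsg.Agent.Lib.helper17.ONM.P3B.Chk119
import Cfsg.Agent.Lib.helper17.ONM.P3B.Chk120
import Cfsg.Agent.Lib.helper17.ONM.P3B.Chk121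
import Cfsg.Agent.Lib.helper17.ONM.P3B.Chk122
import Cfsg.Agent.Lib.helper17.ONM.P3B.Chk123
import Cfsg.Agent.Lib.helper17.ONM.P3B.Chk124
import Cfsg.Agent.Lib.helper17.ONM.P3B.Chk125
import Cfsg.Agent.Lib.helper17.ONM.P3B.Chk126
import Cfsg.Agent.Lib.helper17.ONM.P3B.Chk127
import Cfsg.Agent.Lib.helper17.ONM.P3B.Chk128
import Cfsg.Agent.Lib.helper17.ONM.P3B.Chk129
import Cfsg.Agent.Lib.helper17.ONM.P3B.Chk130
import Cfsg.Agent.Lib.helper17.ONM.P3B.Chk131
import Cfsg.Agent.Lib.helper17.ONM.P3B.Chk132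
import Cfsg.Agent.Lib.helper17.ONM.P3B.Chk133
import Cfsg.Agent.Lib.helper17.ONM.P3B.Chk134
import Cfsg.Agent.Lib.helper17.ONM.P3B.Chk135
import Cfsg.Agent.Lib.helper17.ONM.P3B.Chk136
import Cfsg.Agent.Lib.helper17.ONM.P3B.Chk137
import Cfsg.Agent.Lib.helper17.ONM.P3B.Chk138
import Cfsg.Agent.Lib.helper17.ONM.P3B.Chk139
import Cfsg.Agent.Lib.helper17.ONM.P3B.Chk140
import Cfsg.Agent.Lib.helper17.ONM.P3B.Chk141
import Cfsg.Agent.Lib.helper17.ONM.P3B.Chk142
import Cfsg.Agent.Lib.helper17.ONM.P3B.Chk143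
import Cfsg.Agent.Lib.helper17.ONM.P3B.Chk144
import Cfsg.Agent.Lib.helper17.ONM.P3B.Chk145
import Cfsg.Agent.Lib.helper17.ONM.P3B.Chk146
import Cfsg.Agent.Lib.helper17.ONM.P3B.Chk147
import Cfsg.Agent.Lib.helper17.ONM.P3B.Chk148
import Cfsg.Agent.Lib.helper17.ONM.P3B.Chk149
import Cfsg.Agent.Lib.helper17.ONM.P3B.Chk150
import Cfsg.Agent.Lib.helper17.ONM.Valid
import Cfsg.Agent.Lib.helper17.ONM.P3B.Pres

/-! the checks of the certificate (generated, helper17) -/

set_option autoImplicit false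
set_option maxRecDepth 100000
set_option linter.unusedSimpArgs false
set_option Elab.async false

namespace Cfsg.Agent.Lib.helper17.ONM.P3B

open Cfsg.Agent.Lib.Helper12.TC Cfsg.Agent.Lib.Helper12.TCG 

theorem hdefs_0 : defsPartK F 0 16384 = true := by decide +kernel

theorem hdefs_1 : defsPartK F 16384 16384 = true := by decide +kernel

theorem hdefs_2 : defsPartK F 32768 16384 = true := by decide +kernel

theorem hdefs_3 : defsPartK F 49152 16384 = true := by decide +kernel

theorem hdefs_4 : defsPartK F 65536 16384 = true := by decide +kernel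

theorem hdefs_5 : defsPartK F 81920 16384 = true := by decide +kernel

theorem hdefs_6 : defsPartK F 98304 16384 = true := by decide +kernel

theorem hdefs_7 : defsPartK F 114688 16384 = true := by decide +kernel

theorem hdefs_8 : defsPartK F 131072 16384 = true := by decide +kernel

theorem hdefs_9 : defsPartK F 147456 16384 = true := by decide +kernel

theorem hdefs_10 : defsPartK F 163840 16384 = true := by decide +kernel

theorem hdefs_11 : defsPartK F 180224 5660 = true := by decide +kernel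

theorem hdefs : defsK F cD = true :=
  defsK_of_OK (defsOK_step hdefs_11 rfl
    (defsOK_step hdefs_10 rfl
    (defsOK_step hdefs_9 rfl
    (defsOK_step hdefs_8 rfl
    (defsOK_step hdefs_7 rfl
    (defsOK_step hdefs_6 rfl
    (defsOK_step hdefs_5 rfl
    (defsOK_step hdefs_4 rfl
    (defsOK_step hdefs_3 rfl
    (defsOK_step hdefs_2 rfl
    (defsOK_step hdefs_1 rfl
    (defsOK_step hdefs_0 rfl
    (defsOK_start F)))))))))))))

/-- the chunks of the certificate -/
def chunks : List (ℕ × List ℕ) :=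
  [(185884, c0), (188884, c1), (191884, c2), (194884, c3), (197884, c4), (200884, c5), (203884, c6), (206884, c7), (209884, c8), (212884, c9), (215884, c10), (218884, c11), (221884, c12), (224884, c13), (227884, c14), (230884, c15), (233884, c16), (236884, c17), (239884, c18), (242884, c19), (245884, c20), (248884, c21), (251884, c22), (254884, c23), (257884, c24), (260884, c25), (263884, c26), (266884, c27), (269884, c28), (272884, c29), (275884, c30), (278884, c31), (281884, c32), (284884, c33), (287884, c34), (290884, c35), (293884, c36), (296884, c37), (299884, c38), (302884, c39), (305884, c40), (308884, c41), (311884, c42), (314884, c43), (317884, c44), (320884, c45), (323884, c46), (326884, c47), (329884, c48), (332884, c49), (335884, c50), (338884, c51), (341884, c52), (344884, c53), (347884, c54), (350884, c55), (353884, c56), (356884, c57), (359884, c58), (362884, c59), (365884, c60), (368884, c61), (371884, c62), (374884, c63), (377884, c64), (380884,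 c65), (383884, c66), (386884, c67), (389884, c68), (392884, c69), (395884, c70), (398884, c71), (401884, c72), (404884, c73), (407884, c74), (410884, c75), (413884, c76), (416884, c77), (419884, c78), (422884, c79), (425884, c80), (428884, c81), (431884, c82), (434884, c83), (437884, c84), (440884, c85), (443884, c86), (446884, c87), (449884, c88), (452884, c89), (455884, c90), (458884, c91), (461884, c92), (464884, c93), (467884, c94), (470884, c95), (473884, c96), (476884, c97), (479884, c98), (482884, c99), (485884, c100), (488884, c101), (491884, c102), (494884, c103), (497884, c104), (500884, c105), (503884, c106), (506884, c107), (509884, c108), (512884, c109), (515884, c110), (518884, c111), (521884, c112), (524884, c113), (527884, c114), (530884, c115), (533884, c116), (536884, c117), (539884, c118), (542884, c119), (545884, c120), (548884, c121), (551884, c122), (554884, c123), (557884, c124), (560884, c125), (563884, c126), (566884, c127), (569884, c128),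 (572884, c129), (575884, c130), (578884, c131), (581884, c132), (584884, c133), (587884, c134), (590884, c135), (593884, c136), (596884, c137), (599884, c138), (602884, c139), (605884, c140), (608884, c141), (611884, c142), (614884, c143), (617884, c144), (620884, c145), (623884, c146), (626884, c147), (629884, c148), (632884, c149), (635884, c150)]

theorem hcover : coverK cD cK chunks = true := by decide +kernel

theorem hchunks : ∀ c ∈ chunks, chunkG cIV F RW cR0 c.2 c.1 = true := by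
  unfold chunks
  simp only [List.forall_mem_cons, List.not_mem_nil, false_imp_iff, implies_true, and_true]
  exact ⟨chunk0, chunk1, chunk2, chunk3, chunk4, chunk5, chunk6, chunk7, chunk8, chunk9, chunk10, chunk11, chunk12, chunk13, chunk14, chunk15, chunk16, chunk17, chunk18, chunk19, chunk20, chunk21, chunk22, chunk23, chunk24, chunk25, chunk26, chunk27, chunk28, chunk29, chunk30, chunk31, chunk32, chunk33, chunk34, chunk35, chunk36, chunk37, chunk38, chunk39, chunk40, chunk41, chunk42, chunk43, chunk44, chunk45, chunk46, chunk47, chunk48, chunk49, chunk50, chunk51, chunk52, chunk53, chunk54, chunk55, chunk56, chunk57, chunk58, chunk59, chunk60, chunk61, chunk62, chunk63, chunk64, chunk65, chunk66, chunk67, chunk68, chunk69, chunk70, chunk71, chunk72, chunk73, chunk74, chunk75, chunk76, chunk77, chunk78, chunk79, chunk80, chunk81, chunk82, chunk83, chunk84, chunk85, chunk86, chunk87, chunk88, chunk89, chunk90, chunk91, chunk92, chunk93, chunk94, chunk95, chunk96,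 chunk97, chunk98, chunk99, chunk100, chunk101, chunk102, chunk103, chunk104, chunk105, chunk106, chunk107, chunk108, chunk109, chunk110, chunk111, chunk112, chunk113, chunk114, chunk115, chunk116, chunk117, chunk118, chunk119, chunk120, chunk121, chunk122, chunk123, chunk124, chunk125, chunk126, chunk127, chunk128, chunk129, chunk130, chunk131, chunk132, chunk133, chunk134, chunk135, chunk136, chunk137, chunk138, chunk139, chunk140, chunk141, chunk142, chunk143, chunk144, chunk145, chunk146, chunk147, chunk148, chunk149, chunk150⟩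

theorem hrelc : relCheckK RW cR0 cR baseL rotW sw = true := by
  decide +kernel

theorem hletsw : lettersK 10 sw = true := by decide +kernel

theorem hiv : ivK cIV 10 = true := by decide +kernel

theorem htarget_0 : 638036 < cK ∧ fSrc (F 638036) = 0 ∧ fDst (F 638036) = 0 ∧ fSym (F 638036) = 9 := by decide +kernel

/-- the letters of the targets lie in the subgroup -/
theorem cert_mem {G : Type*} [Group G] (v : ℕ → G) (hvinv : ∀ s < 10, v (invS cIV s) = (v s)⁻¹)
    (hvge : ∀ s, ¬ s < 10 → v s = 1) (hbase : ∀ b ∈ baseL, wprod v b = 1) (H : Subgroup G)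
    (hH : ∀ w ∈ sw, wprod v w ∈ H) : v 9 ∈ H := by
  have hv := Cfsg.Agent.Lib.helper17.ONM.onm_valid_all v 10 cIV (by norm_num) hiv hvinv hvge baseL hbase hlet sw hletsw H hH
    F RW rotW chunks cD cK cR0 cR hdefs hchunks hcover hrelc
  exact Cfsg.Agent.Lib.helper17.ONM.onm_mem_of_valid v H F 638036 9 (hv 638036 htarget_0.1) htarget_0.2.1 htarget_0.2.2.1 htarget_0.2.2.2

end Cfsg.Agent.Lib.helper17.ONM.P3B
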